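import Groth.Agent.L27.SmoothLA.AffineSpace
import Groth.Agent.L27.SmoothLA.Kummer
import Groth.Agent.L27.ULA.Crit
import Groth.Agent.L27.ULA.Fibre
import Groth.Agent.L28.FieldCd.Degree
import Mathlib.RingTheory.MvPolynomial.Homogeneous

/-! # Contractible rings: affine cones -/

set_option autoImplicit false
set_option linter.style.haveILetI false
set_option linter.unusedSectionVars false
set_option backward.isDefEq.respectTransparency.types false

universe u

open CategoryTheory CategoryTheory.Limits AlgebraicGeometry Opposite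

noncomputable section

namespace Groth.L28.Cone

open Groth.L27 Groth.L27.SmoothLA

variable {k A : Type u} [Field k] [CommRing A] [Algebra k A]

theorem pullC_eq {X Y : Scheme.{u}} {f g : X ⟶ Y} (hfg : f = g) (hf : PreservesFiniteLimits (EtCoh.pull f))
    (hg : PreservesFiniteLimits (EtCoh.pull g)) (n q : ℕ) :
    @pullC _ _ f hf n q = @pullC _ _ g hg n q := by
  subst hfg
  rfl

theorem bijective_pullC_of_bijective_Hpull {X Y : Scheme.{u}} (f : X ⟶ Y) [PreservesFiniteLimits (EtCoh.pull f)]
    (n q : ℕ) (h : Function.Bijective (EtCore.Hpull f (EtCoh.const Y (ZMod n)) q)) :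
    Function.Bijective (pullC f n q) :=
  (ConcreteCategory.bijective_of_isIso ((EtCoh.HF X q).map (EtCore.pullConst f (ZMod n)).hom)).comp h

theorem bijective_Hpull_of_bijective_pullC {X Y : Scheme.{u}} (f : X ⟶ Y) [PreservesFiniteLimits (EtCoh.pull f)]
    (n q : ℕ) (h : Function.Bijective (pullC f n q)) :
    Function.Bijective (EtCore.Hpull f (EtCoh.const Y (ZMod n)) q) :=
  (Function.Bijective.of_comp_iff' (ConcreteCategory.bijective_of_isIso
    ((EtCoh.HF X q).map (EtCore.pullConst f (ZMod n)).hom)) _).1 h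

/-- The line over a ring does not change cohomology with constant coefficients. -/
theorem bijective_pullC_lineProj (k A : Type u) [Field k] [CommRing A] [Algebra k A] {n : ℕ} (hn : (n : k) ≠ 0)
    [PreservesFiniteLimits (EtCoh.pull (lineProj A))] (q : ℕ) :
    Function.Bijective (pullC (lineProj A) n q) := by
  let L : Set ℕ := {p | IsUnit (p : A)}
  have hunit : ∀ m : ℕ, (m : k) ≠ 0 → m ∈ L := fun m hm => by
    have := (IsUnit.mk0 _ hm).map (algebraMap k A)
    rwa [map_natCast] at this
  have hp : ∃ ℓ ∈ L, ℓ.Prime := by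
    by_cases h2 : ((2 : ℕ) : k) = 0
    · refine ⟨3, hunit 3 fun h3 => one_ne_zero (α := k) ?_, Nat.prime_three⟩
      calc (1 : k) = ((3 : ℕ) : k) - ((2 : ℕ) : k) := by push_cast; ring
        _ = 0 := by rw [h2, h3, sub_zero]
    · exact ⟨2, hunit 2 h2, Nat.prime_two⟩
  have hn0 : 0 < n := Nat.pos_of_ne_zero fun h => hn (by rw [h, Nat.cast_zero])
  have hF : EtAcyc.IsLTorsion L (EtCoh.const (Spec (CommRingCat.of A)) (ZMod n)) :=
    DerBC.Killed.isLTorsion ⟨n, ⟨hn0, fun p _ ⟨c, hc⟩ => hunit p fun h0 => hn (by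
      rw [hc, Nat.cast_mul, h0, zero_mul])⟩, FieldCd.nsmul_id_const n⟩
  exact bijective_pullC_of_bijective_Hpull _ n q
    ((ULA.compN_self (isAcyclicN_lineProj A L hp (fun ℓ hℓ _ => hℓ) q) _ hF).1 q le_rfl)

/-- A ring contractible onto a rational point has the cohomology of the base field. -/
theorem bijective_Hpull_point (ε : A →+* k) (hεs : ∀ c : k, ε (algebraMap k A c) = c)
    (h : A →+* Polynomial A) (h1 : (Polynomial.evalRingHom (1 : A)).comp h = RingHom.id A)
    (h0 : (Polynomial.evalRingHom (0 : A)).comp h = (algebraMap k A).comp ε)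
    {n : ℕ} (hn : (n : k) ≠ 0) [PreservesFiniteLimits (EtCoh.pull (Spec.map (CommRingCat.ofHom ε)))] (q : ℕ) :
    Function.Bijective (EtCore.Hpull (Spec.map (CommRingCat.ofHom ε))
      (EtCoh.const (Spec (CommRingCat.of A)) (ZMod n)) q) := by
  refine bijective_Hpull_of_bijective_pullC _ n q ?_
  let X := Spec (CommRingCat.of A)
  let i : Spec (CommRingCat.of k) ⟶ X := Spec.map (CommRingCat.ofHom ε)
  let s : X ⟶ Spec (CommRingCat.of k) := Spec.map (CommRingCat.ofHom (algebraMap k A))
  let π := lineProj A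
  let H : Spec (CommRingCat.of (Polynomial A)) ⟶ X := Spec.map (CommRingCat.ofHom h)
  let e : A → (X ⟶ Spec (CommRingCat.of (Polynomial A))) := fun a =>
    Spec.map (CommRingCat.ofHom (Polynomial.evalRingHom a))
  haveI := EtSite.preservesFiniteLimits_pull (𝟙 X)
  haveI := EtSite.preservesFiniteLimits_pull (𝟙 (Spec (CommRingCat.of k)))
  haveI := EtSite.preservesFiniteLimits_pull s
  haveI := EtSite.preservesFiniteLimits_pull π
  haveI := EtSite.preservesFiniteLimits_pull H
  haveI := fun a => EtSite.preservesFiniteLimits_pull (e a)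
  haveI := EtSite.preservesFiniteLimits_pull (s ≫ i)
  have heπ : ∀ a, e a ≫ π = 𝟙 X := fun a => by
    rw [← Spec.map_comp, ← Spec.map_id]
    refine congrArg Spec.map (CommRingCat.hom_ext (RingHom.ext fun x => ?_))
    show Polynomial.eval a (Polynomial.C x) = x
    exact Polynomial.eval_C
  have he1 : e 1 ≫ H = 𝟙 X := by
    rw [← Spec.map_comp, ← CommRingCat.ofHom_comp, h1, ← Spec.map_id]
    rfl
  have he0 : e 0 ≫ H = s ≫ i := by
    rw [← Spec.map_comp, ← Spec.map_comp, ← CommRingCat.ofHom_comp, ← CommRingCat.ofHom_comp, h0]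
  have his : i ≫ s = 𝟙 (Spec (CommRingCat.of k)) := by
    rw [← Spec.map_comp, ← Spec.map_id]
    exact congrArg Spec.map (CommRingCat.hom_ext (RingHom.ext hεs))
  have hidX : Function.Bijective (pullC (𝟙 X) n q) :=
    bijective_pullC_of_bijective_Hpull _ n q (AcyComp.bijective_Hpull (𝟙 X) _ q)
  have hidk : Function.Bijective (pullC (𝟙 (Spec (CommRingCat.of k))) n q) :=
    bijective_pullC_of_bijective_Hpull _ n q (AcyComp.bijective_Hpull (𝟙 _) _ q)
  have key : ∀ x, pullC (𝟙 X) n q x = pullC s n q (pullC i n q x) := fun x => by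
    obtain ⟨y, hy⟩ := (bijective_pullC_lineProj k A hn q).2 (pullC H n q x)
    rw [← pullC_comp (e 1) H he1 n q x, pullC_comp s i (k := s ≫ i) rfl n q x,
      ← pullC_comp (e 0) H he0 n q x, ← hy, pullC_comp (e 1) π (heπ 1), pullC_comp (e 0) π (heπ 0)]
  refine ⟨fun x x' hxx => hidX.1 ?_, fun z => ?_⟩
  · rw [key, key]
    exact congrArg (pullC s n q) hxx
  · obtain ⟨z', rfl⟩ := hidk.2 z
    exact ⟨pullC s n q z', pullC_comp i s his n q z'⟩

/-- The homotopy on a homogeneous quotient of a polynomial ring. -/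
theorem exists_contraction {σ : Type} {I : Ideal (MvPolynomial σ k)}
    (T : Set (MvPolynomial σ k)) (hT : I = Ideal.span T) (hTh : ∀ p ∈ T, ∃ d : ℕ, p.IsHomogeneous d)
    (ε : (MvPolynomial σ k ⧸ I) →+* k)
    (hεC : ∀ c : k, ε (Ideal.Quotient.mk I (MvPolynomial.C c)) = c)
    (hεX : ∀ i, ε (Ideal.Quotient.mk I (MvPolynomial.X i)) = 0) :
    ∃ h : (MvPolynomial σ k ⧸ I) →+* Polynomial (MvPolynomial σ k ⧸ I),
      (Polynomial.evalRingHom 1).comp h = RingHom.id _ ∧
      (Polynomial.evalRingHom 0).comp h = (algebraMap k _).comp ε := by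
  classical
  let A' := MvPolynomial σ k ⧸ I
  let h₀ : MvPolynomial σ k →+* Polynomial A' := MvPolynomial.eval₂Hom
    (Polynomial.C.comp ((Ideal.Quotient.mk I).comp MvPolynomial.C))
    (fun i => Polynomial.C (Ideal.Quotient.mk I (MvPolynomial.X i)) * Polynomial.X)
  have hhom : ∀ (p : MvPolynomial σ k) (d : ℕ), p.IsHomogeneous d →
      h₀ p = Polynomial.C (Ideal.Quotient.mk I p) * Polynomial.X ^ d := by
    intro p d hp
    conv_lhs => rw [p.as_sum]
    conv_rhs => rw [p.as_sum]
    rw [map_sum, map_sum, map_sum, Finset.sum_mul]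
    refine Finset.sum_congr rfl fun m hm => ?_
    have hd : m.sum (fun _ e => e) = d := by
      have := hp (MvPolynomial.mem_support_iff.1 hm)
      rw [← this, Finsupp.weight_apply]
      exact Finsupp.sum_congr fun x _ => by simp
    rw [MvPolynomial.monomial_eq]
    show h₀ (MvPolynomial.C _ * _) = _
    rw [map_mul, map_mul, map_mul, mul_assoc]
    congr 1
    · simp [h₀]
    · rw [map_finsuppProd, map_finsuppProd, map_finsuppProd, ← hd, Finsupp.sum]
      refine Eq.trans ?_ (congrArg (m.prod _ * ·)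
        (Finset.prod_pow_eq_pow_sum m.support (fun a => m a) (Polynomial.X : Polynomial A')))
      rw [Finsupp.prod, Finsupp.prod, ← Finset.prod_mul_distrib]
      refine Finset.prod_congr rfl fun i _ => ?_
      rw [map_pow, map_pow, map_pow]
      show (h₀ (MvPolynomial.X i)) ^ _ = _
      simp [h₀]
      exact (Polynomial.commute_X _).symm.mul_pow _
  have hker : ∀ p ∈ I, h₀ p = 0 := by
    intro p hp
    rw [hT] at hp
    refine (Ideal.span_le (I := RingHom.ker h₀)).2 ?_ hp
    intro t ht
    obtain ⟨d, hd⟩ := hTh t ht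
    show h₀ t = 0
    rw [hhom t d hd, Ideal.Quotient.eq_zero_iff_mem.2 (hT ▸ Ideal.subset_span ht), map_zero, zero_mul]
  refine ⟨Ideal.Quotient.lift I h₀ hker, ?_, ?_⟩
  · refine Ideal.Quotient.ringHom_ext (MvPolynomial.ringHom_ext (fun c => ?_) fun i => ?_)
    · simp [h₀]
    · simp [h₀]
  · refine Ideal.Quotient.ringHom_ext (MvPolynomial.ringHom_ext (fun c => ?_) fun i => ?_)
    · simp [h₀, hεC]
      rfl
    · simp [h₀, hεX]

end Groth.L28.Cone
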